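import Mathlib.AlgebraicGeometry.Morphisms.Smooth
import Mathlib.AlgebraicGeometry.Morphisms.Etale
import Mathlib.CategoryTheory.Comma.Over.Pullback

/-!
# Bijectivity of base change on Hom sets, unfolded
-/

set_option autoImplicit false
set_option backward.isDefEq.respectTransparency false

universe u

open CategoryTheory CategoryTheory.Limits AlgebraicGeometry

namespace Groth.Agent.NeronBij

variable {S U : Scheme.{u}} (i : U ⟶ S) (Z N : Over S)

/-- Base change is bijective on `Hom(Z, N)` iff morphisms from the pullback of `Z` extend uniquely. -/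
theorem bijective_iff : Function.Bijective (fun g : Z ⟶ N => (Over.pullback i).map g) ↔
    ∀ (P : Scheme.{u}) (a : P ⟶ Z.left) (b : P ⟶ U), IsPullback a b Z.hom i →
      ∀ φ : P ⟶ N.left, φ ≫ N.hom = a ≫ Z.hom → ∃! g : Z.left ⟶ N.left, g ≫ N.hom = Z.hom ∧ a ≫ g = φ := by
  have key : ∀ g : Z ⟶ N, ((Over.pullback i).map g).left ≫ pullback.fst N.hom i = pullback.fst Z.hom i ≫ g.left :=
    fun g => pullback.lift_fst _ _ _
  constructor
  · intro h P a b hP φ hφ
    let e := hP.isoPullback
    have he : e.hom ≫ pullback.fst Z.hom i = a := hP.isoPullback_hom_fst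
    have he' : e.inv ≫ a = pullback.fst Z.hom i := hP.isoPullback_inv_fst
    let ψ : (Over.pullback i).obj Z ⟶ (Over.pullback i).obj N :=
      Over.homMk (pullback.lift (e.inv ≫ φ) (pullback.snd Z.hom i) (by
        rw [Category.assoc, hφ, ← Category.assoc, he', pullback.condition])) (pullback.lift_snd _ _ _)
    obtain ⟨g, hg⟩ := h.2 ψ
    have hg' : (Over.pullback i).map g = ψ := hg
    refine ⟨g.left, ⟨Over.w g, ?_⟩, fun g' ⟨h1, h2⟩ => ?_⟩
    · rw [← he, Category.assoc, ← key, hg']
      simp [ψ]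
    · refine congrArg CommaMorphism.left (h.1 (a₁ := Over.homMk g' h1) (a₂ := g) ?_)
      show (Over.pullback i).map (Over.homMk g' h1) = (Over.pullback i).map g
      rw [hg']
      apply Over.OverMorphism.ext
      apply pullback.hom_ext
      · rw [key]
        simp only [ψ, Over.homMk_left]
        rw [pullback.lift_fst, ← he', Category.assoc, h2]
      · exact (Over.w ((Over.pullback i).map (Over.homMk g' h1))).trans (pullback.lift_snd _ _ _).symm
  · intro h
    refine ⟨fun g₁ g₂ e => ?_, fun ψ => ?_⟩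
    · obtain ⟨g, -, hu⟩ := h _ _ _ (IsPullback.of_hasPullback Z.hom i) (pullback.fst Z.hom i ≫ g₁.left)
        (by rw [Category.assoc, Over.w g₁])
      exact Over.OverMorphism.ext ((hu g₁.left ⟨Over.w g₁, rfl⟩).trans (hu g₂.left ⟨Over.w g₂, by
        rw [← key, ← key, show (Over.pullback i).map g₁ = (Over.pullback i).map g₂ from e]⟩).symm)
    · obtain ⟨g, ⟨h1, h2⟩, -⟩ := h _ _ _ (IsPullback.of_hasPullback Z.hom i) (ψ.left ≫ pullback.fst N.hom i) (by
        rw [Category.assoc, pullback.condition, ← Category.assoc, pullback.condition]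
        exact congrArg (· ≫ i) (Over.w ψ))
      refine ⟨Over.homMk g h1, Over.OverMorphism.ext (pullback.hom_ext ?_ ?_)⟩
      · exact (key _).trans h2
      · exact (Over.w ((Over.pullback i).map (Over.homMk g h1))).trans (Over.w ψ).symm

/-- smoothness cancels etale morphisms -/
theorem smooth_of_comp {X Y Z : Scheme.{u}} (f : X ⟶ Y) (g : Y ⟶ Z) [Smooth (f ≫ g)] [Etale g] : Smooth f := by
  haveI : MorphismProperty.IsMultiplicative @Smooth :=
    { id_mem := fun _ => inferInstance, comp_mem := fun a b (_ : Smooth a) (_ : Smooth b) => inferInstance }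
  haveI : MorphismProperty.HasOfPostcompProperty @Smooth @Etale :=
    MorphismProperty.hasOfPostcompProperty_iff_le_diagonal.2 fun {A B} h (hh : Etale h) =>
      show Smooth (pullback.diagonal h) from inferInstance
  exact MorphismProperty.of_postcomp (W := @Smooth) (W' := @Etale) f g ‹_› ‹_›

/-- The inclusion of a smaller open. -/
theorem exists_isPullback_ι {S : Scheme.{u}} {S₀ S₁ : S.Opens} (h01 : S₀ ≤ S₁) :
    ∃ k : ((S₁.ι ⁻¹ᵁ S₀ : (S₁ : Scheme.{u}).Opens) : Scheme.{u}) ⟶ (S₀ : Scheme.{u}),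
      IsIso k ∧ k ≫ S₀.ι = (S₁.ι ⁻¹ᵁ S₀).ι ≫ S₁.ι := by
  have hr : Set.range ((S₁.ι ⁻¹ᵁ S₀).ι ≫ S₁.ι) = Set.range S₀.ι := by
    rw [Scheme.Hom.comp_base, TopCat.coe_comp, Set.range_comp, Scheme.Opens.range_ι, Scheme.Opens.range_ι,
      Scheme.Hom.coe_preimage, Set.image_preimage_eq_inter_range, Scheme.Opens.range_ι]
    exact Set.inter_eq_left.mpr h01
  exact ⟨(IsOpenImmersion.isoOfRangeEq _ S₀.ι hr).hom, inferInstance, IsOpenImmersion.isoOfRangeEq_hom_fac _ _ _⟩

end Groth.Agent.NeronBij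

namespace Groth.Agent.NeronBij

variable {S U : Scheme.{u}} (i : U ⟶ S) (Z N : Over S)

/-- Base change is injective on `Hom(Z, N)` iff morphisms agreeing on the pullback are equal. -/
theorem injective_iff : Function.Injective (fun g : Z ⟶ N => (Over.pullback i).map g) ↔
    ∀ (P : Scheme.{u}) (a : P ⟶ Z.left) (b : P ⟶ U), IsPullback a b Z.hom i →
      ∀ g₁ g₂ : Z.left ⟶ N.left, g₁ ≫ N.hom = Z.hom → g₂ ≫ N.hom = Z.hom → a ≫ g₁ = a ≫ g₂ → g₁ = g₂ := by
  have key : ∀ g : Z ⟶ N, ((Over.pullback i).map g).left ≫ pullback.fst N.hom i = pullback.fst Z.hom i ≫ g.left :=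
    fun g => pullback.lift_fst _ _ _
  constructor
  · intro h P a b hP g₁ g₂ h₁ h₂ e
    refine congrArg CommaMorphism.left (h (a₁ := Over.homMk g₁ h₁) (a₂ := Over.homMk g₂ h₂) ?_)
    refine Over.OverMorphism.ext (pullback.hom_ext ?_ ?_)
    · refine (key _).trans (Eq.trans ?_ (key _).symm)
      rw [← hP.isoPullback_inv_fst]
      simp only [Category.assoc, Over.homMk_left, e]
    · exact (Over.w ((Over.pullback i).map (Over.homMk g₁ h₁))).trans
        (Over.w ((Over.pullback i).map (Over.homMk g₂ h₂))).symm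
  · intro h g₁ g₂ e
    refine Over.OverMorphism.ext (h _ _ _ (IsPullback.of_hasPullback Z.hom i) _ _ (Over.w g₁) (Over.w g₂) ?_)
    rw [← key, ← key, show (Over.pullback i).map g₁ = (Over.pullback i).map g₂ from e]

/-- Composition of the restricted pullback square with `g : S' ⟶ S`. -/
theorem isPullback_comp {S' : Scheme.{u}} (g : S' ⟶ S) (W : S.Opens) (Y : Over S') {P : Scheme.{u}} {a : P ⟶ Y.left}
    {b : P ⟶ (g ⁻¹ᵁ W : S'.Opens)} (h : IsPullback a b Y.hom (g ⁻¹ᵁ W).ι) :
    IsPullback a (b ≫ g ∣_ W) (Y.hom ≫ g) W.ι :=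
  h.paste_vert (isPullback_morphismRestrict g W).flip

end Groth.Agent.NeronBij
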